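import Cfsg.Agent.Lib.Helper6.StSL.Defs
import Cfsg.Agent.S2530

/-! StSL piece A6c: the kernel of a map onto the symmetric group, via the Coxeter presentation. -/

set_option autoImplicit false

namespace Cfsg.Agent.Lib.Helper6.StSL

theorem ker_le_of_coxeter {W : Type*} [Group W] (m : ℕ) (H : Subgroup W) [H.Normal]
    (p : W →* Equiv.Perm (Fin (m + 1))) (hH : H ≤ p.ker) (s : Fin m → W)
    (hp : ∀ i, p (s i) = Equiv.swap i.castSucc i.succ)
    (hsq : ∀ i, s i * s i ∈ H)
    (hfar : ∀ i j : Fin m, i.val + 1 < j.val → s i * s j = s j * s i)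
    (hbraid : ∀ i j : Fin m, i.val + 1 = j.val → s i * s j * s i = s j * s i * s j)
    (hgen : H ⊔ Subgroup.closure (Set.range s) = ⊤) : p.ker ≤ H := by
  obtain ⟨cs, hcs⟩ := Cfsg.Agent.S2530.result m
  let f : Fin m → W ⧸ H := fun i => QuotientGroup.mk (s i)
  have fsq : ∀ i, f i * f i = 1 := by
    intro i
    show (QuotientGroup.mk (s i) : W ⧸ H) * QuotientGroup.mk (s i) = 1
    rw [← QuotientGroup.mk_mul]
    exact (QuotientGroup.eq_one_iff _).2 (hsq i)
  have ffar : ∀ i j : Fin m, i.val + 1 < j.val → f i * f j = f j * f i := by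
    intro i j h
    show (QuotientGroup.mk (s i) : W ⧸ H) * QuotientGroup.mk (s j)
      = QuotientGroup.mk (s j) * QuotientGroup.mk (s i)
    rw [← QuotientGroup.mk_mul, ← QuotientGroup.mk_mul, hfar i j h]
  have fbraid : ∀ i j : Fin m, i.val + 1 = j.val → f i * f j * f i = f j * f i * f j := by
    intro i j h
    show (QuotientGroup.mk (s i) : W ⧸ H) * QuotientGroup.mk (s j) * QuotientGroup.mk (s i)
      = QuotientGroup.mk (s j) * QuotientGroup.mk (s i) * QuotientGroup.mk (s j)
    rw [← QuotientGroup.mk_mul, ← QuotientGroup.mk_mul, ← QuotientGroup.mk_mul,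
      ← QuotientGroup.mk_mul, hbraid i j h]
  -- general facts
  have two : ∀ a b : W ⧸ H, a * a = 1 → b * b = 1 → a * b = b * a → (a * b) ^ 2 = 1 := by
    intro a b ha hb hab
    calc (a * b) ^ 2 = a * (b * a) * b := by rw [pow_two]; group
      _ = a * (a * b) * b := by rw [hab]
      _ = (a * a) * (b * b) := by group
      _ = 1 := by rw [ha, hb, one_mul]
  have three : ∀ a b : W ⧸ H, a * a = 1 → b * b = 1 → a * b * a = b * a * b →
      (a * b) ^ 3 = 1 := by
    intro a b ha hb hab
    calc (a * b) ^ 3 = (a * b * a) * (b * a * b) := by rw [pow_three]; group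
      _ = (a * b * a) * (a * b * a) := by rw [hab]
      _ = a * b * (a * a) * b * a := by group
      _ = a * (b * b) * a := by rw [ha]; group
      _ = 1 := by rw [hb, mul_one, ha]
  have hlift : (CoxeterMatrix.A m).IsLiftable f := by
    intro i j
    have hM : (CoxeterMatrix.A m).M i j = if i = j then 1
      else (if (j : ℕ) + 1 = i ∨ (i : ℕ) + 1 = j then 3 else 2) := rfl
    rw [hM]
    by_cases hij : i = j
    · subst hij
      simp [fsq]
    · rw [if_neg hij]
      have hne : (i : ℕ) ≠ j := fun h => hij (Fin.ext h)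
      by_cases h1 : (j : ℕ) + 1 = i
      · rw [if_pos (Or.inl h1)]
        exact three _ _ (fsq i) (fsq j) (fbraid j i h1).symm
      · by_cases h2 : (i : ℕ) + 1 = j
        · rw [if_pos (Or.inr h2)]
          exact three _ _ (fsq i) (fsq j) (fbraid i j h2)
        · rw [if_neg (by tauto)]
          rcases lt_or_gt_of_ne hne with h | h
          · exact two _ _ (fsq i) (fsq j) (ffar i j (by omega))
          · exact two _ _ (fsq i) (fsq j) (ffar j i (by omega)).symm
  let ψ : Equiv.Perm (Fin (m + 1)) →* W ⧸ H := cs.lift ⟨f, hlift⟩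
  have hψ : ∀ i, ψ (cs.simple i) = f i := fun i => cs.lift_apply_simple hlift i
  let p' : W ⧸ H →* Equiv.Perm (Fin (m + 1)) := QuotientGroup.lift H p (fun x hx => hH hx)
  have hp' : ∀ g : W, p' (QuotientGroup.mk g) = p g := fun g => rfl
  have hcomp : p'.comp ψ = MonoidHom.id _ := by
    apply cs.ext_simple
    intro i
    rw [MonoidHom.comp_apply, hψ, MonoidHom.id_apply, hcs]
    exact hp i
  have hsurj : Function.Surjective ψ := by
    rw [← MonoidHom.range_eq_top]
    -- comap of the range contains H and the s i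
    have hle : H ⊔ Subgroup.closure (Set.range s) ≤ ψ.range.comap (QuotientGroup.mk' H) := by
      refine sup_le ?_ ?_
      · intro x hx
        rw [Subgroup.mem_comap]
        have : (QuotientGroup.mk' H) x = 1 := (QuotientGroup.eq_one_iff _).2 hx
        rw [this]; exact one_mem _
      · rw [Subgroup.closure_le]
        rintro _ ⟨i, rfl⟩
        exact ⟨cs.simple i, hψ i⟩
    rw [hgen] at hle
    rw [eq_top_iff]
    intro y _
    obtain ⟨g, rfl⟩ := QuotientGroup.mk_surjective y
    exact hle (Subgroup.mem_top g)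
  intro g hg
  obtain ⟨τ, hτ⟩ := hsurj (QuotientGroup.mk g)
  have h1 : τ = 1 := by
    have := DFunLike.congr_fun hcomp τ
    rw [MonoidHom.comp_apply, hτ, hp', MonoidHom.id_apply] at this
    rw [← this]; exact hg
  rw [h1, map_one] at hτ
  exact (QuotientGroup.eq_one_iff _).1 hτ.symm

end Cfsg.Agent.Lib.Helper6.StSL
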