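import Cfsg.Agent.Lib.Helper6.StSL.Defs
import Cfsg.Agent.Lib.Helper6.StSL.A2
import Cfsg.Agent.Lib.Helper6.StSL.A5a
import Cfsg.Agent.Lib.Helper6.StSL.A6c
import Cfsg.Agent.Lib.Helper6.StSL.A6a
import Cfsg.Agent.Lib.Helper6.StSL.A6b
import Cfsg.Agent.Lib.Helper6.StSL.A6d

/-! StSL farm (helper6), piece A6 (helper91). -/

set_option autoImplicit false

namespace Cfsg.Agent.Lib.Helper6.StSL

open Matrix
open scoped commutatorElement

variable {n : ℕ} {K : Type*} [Field K] {Γ : Type*} [Group Γ]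

namespace A6

theorem isMonMat_one : IsMonMat (1 : SLn n K) 1 (fun _ => 1) := by
  intro a k
  rw [Matrix.SpecialLinearGroup.coe_one, Matrix.one_apply, Equiv.Perm.one_apply, Units.val_one]

theorem exists_diag {S : StSys n K Γ} {φ : Γ →* SLn n K} (hφ : Compat S φ) :
    ∀ a ∈ S.Ht, ∃ v : Fin n → Kˣ, IsMonMat (φ a) 1 v := by
  intro a ha
  unfold StSys.Ht at ha
  induction ha using Subgroup.closure_induction with
  | mem x hx =>
    obtain ⟨i, j, u, hij, rfl⟩ := hx
    exact ⟨_, isMonMat_h hφ hij u⟩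
  | one => exact ⟨_, by rw [map_one]; exact isMonMat_one⟩
  | mul x y _ _ hx hy =>
    obtain ⟨v, h⟩ := hx
    obtain ⟨v', h'⟩ := hy
    have h1 := IsMonMat.mul h h'
    rw [← map_mul, mul_one] at h1
    exact ⟨_, h1⟩
  | inv x _ hx =>
    obtain ⟨v, h⟩ := hx
    have h1 := IsMonMat.inv h
    rw [← map_inv, inv_one] at h1
    exact ⟨_, h1⟩

end A6

theorem Wt_diag [Finite K] (S : StSys n K Γ) (hn : 3 ≤ n) {φ : Γ →* SLn n K} (hφ : Compat S φ) :
    ∀ g ∈ S.Wt, ∀ v : Fin n → Kˣ, IsMonMat (φ g) 1 v → g ∈ S.Ht := by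
  obtain ⟨m, rfl⟩ : ∃ m, n = m + 1 := ⟨n - 1, by omega⟩
  obtain ⟨p, hp⟩ := exists_perm_hom S hn hφ
  have hne : ∀ i : Fin m, i.castSucc ≠ i.succ := fun i => (Fin.castSucc_lt_succ).ne
  have hsmem : ∀ i : Fin m, S.w i.castSucc i.succ 1 ∈ S.Wt := fun i =>
    Subgroup.subset_closure ⟨_, _, 1, hne i, rfl⟩
  let s : Fin m → ↥S.Wt := fun i => ⟨S.w i.castSucc i.succ 1, hsmem i⟩
  have hnorm : (S.Ht.subgroupOf S.Wt).Normal := by
    constructor
    intro a ha g
    rw [Subgroup.mem_subgroupOf] at ha ⊢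
    exact Ht_normal S hn g.1 g.2 a.1 ha
  have key := ker_le_of_coxeter m (S.Ht.subgroupOf S.Wt) p ?_ s ?_ ?_ ?_ ?_ ?_
  · intro g hg v hv
    have h1 : (⟨g, hg⟩ : ↥S.Wt) ∈ p.ker := by
      rw [MonoidHom.mem_ker]
      exact hp ⟨g, hg⟩ 1 v hv
    exact Subgroup.mem_subgroupOf.1 (key h1)
  · intro a ha
    rw [Subgroup.mem_subgroupOf] at ha
    obtain ⟨v, hv⟩ := A6.exists_diag hφ a.1 ha
    rw [MonoidHom.mem_ker]
    exact hp a 1 v hv
  · intro i
    exact hp (s i) _ _ (isMonMat_w hφ (hne i) 1)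
  · intro i
    rw [Subgroup.mem_subgroupOf]
    exact s_sq S hn (hne i)
  · intro i j hij
    apply Subtype.ext
    refine s_far S (hne i) (hne j) ?_ ?_ ?_ ?_ <;>
      · intro e
        have := congrArg Fin.val e
        simp at this
        omega
  · intro i j hij
    apply Subtype.ext
    have e : j.castSucc = i.succ := by
      apply Fin.ext
      simp
      omega
    show S.w i.castSucc i.succ 1 * S.w j.castSucc j.succ 1 * S.w i.castSucc i.succ 1
      = S.w j.castSucc j.succ 1 * S.w i.castSucc i.succ 1 * S.w j.castSucc j.succ 1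
    rw [e]
    refine s_braid S hn (hne i) ?_ ?_ <;>
      · intro e
        have := congrArg Fin.val e
        simp at this
        omega
  · apply Subgroup.map_injective S.Wt.subtype_injective
    rw [Subgroup.map_sup, Subgroup.map_subgroupOf_eq_of_le (Ht_le_Wt S), MonoidHom.map_closure,
      ← MonoidHom.range_eq_map, Subgroup.range_subtype]
    have e : (S.Wt.subtype '' Set.range s)
        = {g | ∃ (i j : Fin (m + 1)), i.val + 1 = j.val ∧ g = S.w i j 1} := by
      ext g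
      constructor
      · rintro ⟨_, ⟨i, rfl⟩, rfl⟩
        exact ⟨i.castSucc, i.succ, by simp, rfl⟩
      · rintro ⟨i, j, hij, rfl⟩
        have hi : i.val < m := by have := j.2; omega
        refine ⟨s ⟨i.val, hi⟩, ⟨_, rfl⟩, ?_⟩
        show S.w (Fin.castSucc ⟨i.val, hi⟩) (Fin.succ ⟨i.val, hi⟩) 1 = S.w i j 1
        congr 1
        apply Fin.ext
        simp
        omega
    rw [e]
    exact (Wt_eq_sup S hn).symm

end Cfsg.Agent.Lib.Helper6.StSL
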