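import Cfsg.Agent.Lib.Helper6.StSL.A2
import Cfsg.Agent.Lib.Helper6.StSL.A5b
import Cfsg.Agent.Lib.Helper6.StSL.A6
import Cfsg.Agent.Lib.Helper6.StSL.A7b
import Cfsg.Agent.Lib.Helper6.StSL.A8

/-! # Theorem A: a Steinberg system over a finite field maps injectively to `SL_n` -/

set_option autoImplicit false

namespace Cfsg.Agent.Lib.Helper6.StSL

open Matrix

variable {n : ℕ} {K : Type*} [Field K] {Γ : Type*} [Group Γ]

theorem injective_of_stSys [Finite K] (hn : 3 ≤ n) (S : StSys n K Γ) {φ : Γ →* SLn n K}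
    (hφ : Compat S φ) (hgen : Subgroup.closure S.gens = ⊤) : Function.Injective φ := by
  rw [injective_iff_map_eq_one]
  intro g hg
  obtain ⟨u, hu, w, hw, u', hu', rfl⟩ := bruhat S hn hφ hgen g
  obtain ⟨π, v, hmon, hmat⟩ := exists_mon hn hφ w hw
  -- `φ w = (φ u)⁻¹ (φ u')⁻¹` is upper unitriangular
  have hw' : φ w = φ (u⁻¹ * u'⁻¹) := by
    rw [map_mul, map_mul] at hg
    rw [map_mul, map_inv, map_inv]
    have h1 : φ u * φ w = (φ u')⁻¹ := eq_inv_of_mul_eq_one_left hg
    rw [← h1]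
    group
  have hup := Ut_upper S hφ (u⁻¹ * u'⁻¹) (S.Ut.mul_mem (S.Ut.inv_mem hu) (S.Ut.inv_mem hu'))
  rw [← hw'] at hup
  have hπ : π = 1 := by
    ext k
    have h1 := hup.1 k
    rw [hmat k k] at h1
    by_cases h2 : k = π k
    · rw [Equiv.Perm.one_apply, ← h2]
    · rw [if_neg h2] at h1
      exact absurd h1 zero_ne_one
  subst hπ
  have hwH := Wt_diag S hn hφ w hw v hmat
  have hφw : φ w = 1 := by
    apply Matrix.SpecialLinearGroup.ext
    intro a k
    rw [hmat a k, Matrix.SpecialLinearGroup.coe_one, Matrix.one_apply, Equiv.Perm.one_apply]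
    by_cases h2 : a = k
    · subst h2
      have h1 := hup.1 a
      rw [hmat a a, Equiv.Perm.one_apply, if_pos rfl] at h1
      rw [if_pos rfl, if_pos rfl, h1]
    · rw [if_neg h2, if_neg h2]
  have hw1 : w = 1 := Ht_inj hn hφ w hwH hφw
  subst hw1
  rw [mul_one] at hg ⊢
  exact Ut_inj S hφ (u * u') (S.Ut.mul_mem hu hu') hg

end Cfsg.Agent.Lib.Helper6.StSL
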