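import Cfsg.Agent.Lib.Helper6.StSL.Defs
import Cfsg.Agent.Lib.Helper6.StSL.A9
import Cfsg.Agent.Lib.Helper6.StSL.GEN
import Cfsg.Agent.Lib.Helper6.StSL.B0
import Cfsg.Prelude.Def_KGroupFacts

/-! StSL farm (helper6), piece B8. -/

set_option autoImplicit false

namespace Cfsg.Agent.Lib.Helper6.StSL

open Matrix
open scoped commutatorElement

variable {n : ℕ} {K : Type*} [Field K] {Γ : Type*} [Group Γ]

/-- the Steinberg system restricted to the subgroup generated by it -/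
def B8.sub (S : StSys n K Γ) : StSys n K ↥(Subgroup.closure S.gens) where
  x i j t := if h : i ≠ j then ⟨S.x i j t, Subgroup.subset_closure ⟨i, j, t, h, rfl⟩⟩ else 1
  add i j hij t u := by
    rw [dif_pos hij, dif_pos hij, dif_pos hij]
    exact Subtype.ext (S.add i j hij t u)
  comm i j k l hij hkl hjk hil t u := by
    rw [dif_pos hij, dif_pos hkl]
    exact Subtype.ext (S.comm i j k l hij hkl hjk hil t u)
  mulc i j l hij hjl hil t u := by
    rw [dif_pos hij, dif_pos hjl, dif_pos hil]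
    exact Subtype.ext (S.mulc i j l hij hjl hil t u)

theorem B8.sub_x (S : StSys n K Γ) {i j : Fin n} (h : i ≠ j) (t : K) :
    (((B8.sub S).x i j t : ↥(Subgroup.closure S.gens)) : Γ) = S.x i j t := by
  change ((if h : i ≠ j then (⟨S.x i j t, Subgroup.subset_closure ⟨i, j, t, h, rfl⟩⟩ :
    ↥(Subgroup.closure S.gens)) else 1 : ↥(Subgroup.closure S.gens)) : Γ) = _
  rw [dif_pos h]

theorem ker_eq_bot_of_stSys [Finite K] (hn : 3 ≤ n) {σ : Γ →* SLn n K} (hσ : Cfsg.IsStemExtension σ)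
    (S : StSys n K Γ) (hS : Compat S σ) : σ.ker = ⊥ := by
  obtain ⟨hsurj, hcen, hcomm⟩ := hσ
  set Γ0 := Subgroup.closure S.gens with hΓ0
  set S0 := B8.sub S with hS0
  set σ0 : ↥Γ0 →* SLn n K := σ.comp Γ0.subtype with hσ0
  have hcompat0 : Compat S0 σ0 := by
    intro i j hij t
    change σ ((S0.x i j t : ↥Γ0) : Γ) = _
    rw [B8.sub_x S hij, hS i j hij]
  have hgens : S0.gens = ((↑) : ↥Γ0 → Γ) ⁻¹' S.gens := by
    ext g
    constructor
    · rintro ⟨i, j, t, hij, rfl⟩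
      exact ⟨i, j, t, hij, B8.sub_x S hij t⟩
    · rintro ⟨i, j, t, hij, hg⟩
      exact ⟨i, j, t, hij, Subtype.ext (hg.trans (B8.sub_x S hij t).symm)⟩
  have hgen0 : Subgroup.closure S0.gens = ⊤ := by
    rw [hgens]
    exact Subgroup.closure_closure_coe_preimage
  have inj0 : Function.Injective σ0 := injective_of_stSys hn S0 hcompat0 hgen0
  have surj0 : ∀ g : SLn n K, ∃ a ∈ Γ0, σ a = g := by
    have h1 : σ0.range = ⊤ := by
      rw [eq_top_iff, ← closure_tv, Subgroup.closure_le]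
      rintro _ ⟨i, j, t, hij, rfl⟩
      exact ⟨S0.x i j t, hcompat0 i j hij t⟩
    intro g
    obtain ⟨a, ha⟩ : g ∈ σ0.range := h1 ▸ Subgroup.mem_top g
    exact ⟨a.1, a.2, ha⟩
  have hle : commutator Γ ≤ Γ0 := by
    rw [commutator_eq_closure, Subgroup.closure_le]
    rintro _ ⟨a, b, rfl⟩
    obtain ⟨a0, ha0, ha⟩ := surj0 (σ a)
    obtain ⟨b0, hb0, hb⟩ := surj0 (σ b)
    rw [comm_lift_eq hcen ha.symm hb.symm]
    rw [commutatorElement_def]
    exact Γ0.mul_mem (Γ0.mul_mem (Γ0.mul_mem ha0 hb0) (Γ0.inv_mem ha0)) (Γ0.inv_mem hb0)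
  rw [eq_bot_iff]
  intro z hz
  have hz0 : z ∈ Γ0 := hle (hcomm hz)
  have h1 : σ0 ⟨z, hz0⟩ = σ0 1 := by
    rw [map_one]
    exact hz
  have h2 := inj0 h1
  exact congrArg Subtype.val h2

end Cfsg.Agent.Lib.Helper6.StSL
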